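import Groth.Agent.Lib.Unram.SepDegreeEtale
import Groth.Agent.Lib.FinCond.Components
import Groth.Agent.Lib.FibreDeg.Points
import Groth.Agent.Lib.Cyc.Residue
import Mathlib.AlgebraicGeometry.Morphisms.Flat

/-!
# Geometric fibres of a quasi-finite morphism over normal points
-/

set_option autoImplicit false
universe u

open CategoryTheory CategoryTheory.Limits AlgebraicGeometry IsLocalRing

namespace Groth.Agent.Lib.GeomFibreBound.Main

open Groth.Agent.H54.GeomLift Groth.Agent.Lib.Unram

/-- The degree of a finite reduced scheme over a field is the sum of its residue degrees. -/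
theorem finrank_eq {k : Type u} [Field k] {T : Scheme.{u}} (p : T ⟶ Spec (CommRingCat.of k)) [IsFinite p]
    [IsReduced T] :
    letI := (p.appTop.hom.comp (Scheme.ΓSpecIso (CommRingCat.of k)).inv.hom).toAlgebra
    Module.finrank k Γ(T, ⊤) = ∑ᶠ x : T, p.residueDegree x := by
  letI := (p.appTop.hom.comp (Scheme.ΓSpecIso (CommRingCat.of k)).inv.hom).toAlgebra
  have : IsAffine T := isAffine_of_isAffineHom p
  have : Finite T := Set.finite_univ_iff.1 ((p.finite_preimage_singleton (IsLocalRing.closedPoint k)).subset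
    fun x _ => Subsingleton.elim (α := PrimeSpectrum k) _ _)
  have hcl : ∀ x : T, IsClosed ({x} : Set T) := fun x => by
    refine closure_subset_iff_isClosed.1 fun y hy => ?_
    exact (Groth.Agent.Lib.SchTopo.Basic.isIntegralHom_eq_of_specializes p (specializes_iff_mem_closure.2 hy)
      (Subsingleton.elim (α := PrimeSpectrum k) _ _)).symm
  haveI : Fintype T := Fintype.ofFinite T
  let ι : ∀ x : T, k →+* (Spec (CommRingCat.of k)).residueField (p x) := fun x =>
    ((Scheme.ΓSpecIso (CommRingCat.of k)).inv ≫ (Spec (CommRingCat.of k)).Γevaluation (p x)).hom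
  letI : ∀ x : T, Algebra k (T.residueField x) := fun x =>
    ((p.residueFieldMap x).hom.comp (ι x)).toAlgebra
  have hdeg : ∀ x, p.residueDegree x = Module.finrank k (T.residueField x) := by
    intro x
    letI := (p.residueFieldMap x).hom.toAlgebra
    exact (Algebra.finrank_eq_of_equiv_equiv
      (RingEquiv.ofBijective (ι x) (FibreDeg.Points.bijective_Γevaluation_of_field k (p x)))
      (RingEquiv.refl _) (RingHom.ext fun _ => rfl)).symm
  have hev : ∀ (x : T) (a : k), (T.Γevaluation x).hom (algebraMap k Γ(T, ⊤) a) = algebraMap k (T.residueField x) a :=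
    fun x a => (Scheme.Γevaluation_naturality_apply p x _).symm
  let e : ∀ x : T, Γ(T, ⊤) →ₐ[k] T.residueField x := fun x =>
    { (T.Γevaluation x).hom with commutes' := hev x }
  have hs : ∀ x, Function.Surjective (e x) := fun x => FibreDeg.Points.surjective_Γevaluation_of_isClosed x (hcl x)
  have hfin : Module.Finite k Γ(T, ⊤) := by
    have h1 : (p.appTop.hom).Finite := p.finite_appTop
    exact h1.comp (RingHom.Finite.of_surjective _ (ConcreteCategory.bijective_of_isIso (Scheme.ΓSpecIso (CommRingCat.of k)).inv).2)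
  have : ∀ x, Module.Finite k (T.residueField x) := fun x =>
    Module.Finite.of_surjective (e x).toLinearMap (hs x)
  let E : Γ(T, ⊤) →ₐ[k] (∀ x : T, T.residueField x) := AlgHom.pi e
  have hEi : Function.Injective E := by
    refine (injective_iff_map_eq_zero E).2 fun g hg => eq_zero_of_basicOpen_eq_bot g ?_
    refine le_antisymm (fun x hx => ?_) bot_le
    exact absurd hx ((Scheme.evaluation_eq_zero_iff_notMem_basicOpen (U := ⊤) T x trivial g).1 (congrFun hg x))
  have hker : ∀ w : T, ∀ g : Γ(T, ⊤), g ∈ RingHom.ker (e w).toRingHom ↔ w ∉ T.basicOpen g := fun w g =>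
    Scheme.evaluation_eq_zero_iff_notMem_basicOpen (U := ⊤) T w trivial g
  have hE : Function.Surjective E := by
    intro y
    choose a ha using fun x => hs x (y x)
    have hco : Pairwise fun x z : T => IsCoprime (RingHom.ker (e x).toRingHom) (RingHom.ker (e z).toRingHom) := by
      intro x z hxz
      have hmx := RingHom.ker_isMaximal_of_surjective (e x).toRingHom (hs x)
      have hmz := RingHom.ker_isMaximal_of_surjective (e z).toRingHom (hs z)
      rw [Ideal.isCoprime_iff_sup_eq]
      refine hmx.coprime_of_ne hmz fun heq => hxz ?_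
      have hb : ∀ g : Γ(T, ⊤), x ∈ T.basicOpen g ↔ z ∈ T.basicOpen g := fun g => not_iff_not.1 (by
        rw [← hker x g, ← hker z g, heq])
      refine (Inseparable.eq ((inseparable_iff_forall_isOpen).2 fun o ho => ?_))
      constructor <;> intro h
      · obtain ⟨g, hg, hxg⟩ := (isAffineOpen_top T).exists_basicOpen_le (V := ⟨o, ho⟩) ⟨x, h⟩ trivial
        exact hg ((hb g).1 hxg)
      · obtain ⟨g, hg, hzg⟩ := (isAffineOpen_top T).exists_basicOpen_le (V := ⟨o, ho⟩) ⟨z, h⟩ trivial
        exact hg ((hb g).2 hzg)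
    obtain ⟨r, hr⟩ := Ideal.exists_forall_sub_mem_ideal hco a
    refine ⟨r, funext fun x => ?_⟩
    have := hr x
    rw [RingHom.mem_ker] at this
    show e x r = y x
    rw [← ha x]
    exact sub_eq_zero.1 ((map_sub (e x) _ _).symm.trans this)
  rw [(AlgEquiv.ofBijective E ⟨hEi, hE⟩).toLinearEquiv.finrank_eq, Module.finrank_pi_fintype k,
    finsum_eq_sum_of_fintype]
  exact Finset.sum_congr rfl fun x _ => (hdeg x).symm

theorem flat_fromSpecResidueField_genericPoint (W : Scheme.{u}) [IsIntegral W] :
    Flat (W.fromSpecResidueField (genericPoint W)) := by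
  let _ : Field (W.presheaf.stalk (genericPoint W)) := inferInstanceAs (Field W.functionField)
  have hbij : Function.Bijective (W.residue (genericPoint W)).hom :=
    ⟨RingHom.injective _, W.residue_surjective _⟩
  have : IsIso (W.residue (genericPoint W)) := (ConcreteCategory.isIso_iff_bijective _).2 hbij
  have : Flat (W.fromSpecStalk (genericPoint W)) := Unram.BaseChangeNhd.flat_fromSpecStalk _
  rw [Scheme.fromSpecResidueField]
  infer_instance

variable {X Y : Scheme.{u}} (f : X ⟶ Y)

theorem residueFieldMap_surjective {A B : Scheme.{u}} (a : A ⟶ B) [IsPreimmersion a] (t : A) :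
    Function.Surjective (a.residueFieldMap t).hom := fun z => by
  obtain ⟨z, rfl⟩ := A.residue_surjective t z
  obtain ⟨w, rfl⟩ := a.stalkMap_surjective t z
  exact ⟨B.residue (a t) w, ConcreteCategory.congr_hom (Scheme.residue_residueFieldMap a t) w⟩

/-- The fibre over the generic point of an integral scheme of a reduced scheme is reduced, and its degree
is the sum of the residue degrees. -/
theorem finrank_generic [IsReduced X] [LocallyQuasiFinite f] [LocallyOfFiniteType f]
    [QuasiCompact f] [IsSeparated f] (η : Y) [Flat (Y.fromSpecResidueField η)]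
    (hfin : (f.base ⁻¹' {η}).Finite) :
    letI := (((pullback.snd f (Y.fromSpecResidueField η)).appTop).hom.comp
      (Scheme.ΓSpecIso (Y.residueField η)).inv.hom).toAlgebra
    Module.finrank (Y.residueField η)
        Γ(pullback f (Y.fromSpecResidueField η), ⊤) =
      ∑ x ∈ hfin.toFinset, EGA4loc.residueDegree f x := by
  let j := Y.fromSpecResidueField η
  let p : pullback f j ⟶ Spec (CommRingCat.of (Y.residueField η)) := pullback.snd f j
  let q : pullback f j ⟶ X := pullback.fst f j
  have : Flat q := MorphismProperty.pullback_fst f j inferInstance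
  have : IsPreimmersion q := MorphismProperty.pullback_fst f j inferInstance
  have : IsReduced (pullback f j) := by
    have : ∀ t, _root_.IsReduced ((pullback f j).presheaf.stalk t) := fun t => by
      have hflat := Flat.stalkMap q t
      algebraize [(q.stalkMap t).hom]
      have : IsLocalHom (algebraMap (X.presheaf.stalk (q t)) ((pullback f j).presheaf.stalk t)) :=
        inferInstanceAs (IsLocalHom (q.stalkMap t).hom)
      have : Module.Flat (X.presheaf.stalk (q t)) ((pullback f j).presheaf.stalk t) := hflat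
      have := Module.FaithfullyFlat.of_flat_of_isLocalHom (A := X.presheaf.stalk (q t))
        (B := (pullback f j).presheaf.stalk t)
      have hb : Function.Bijective (q.stalkMap t).hom :=
        ⟨FaithfulSMul.algebraMap_injective _ _, q.stalkMap_surjective t⟩
      exact isReduced_of_injective (RingEquiv.ofBijective _ hb).symm.toRingHom
        (RingEquiv.ofBijective _ hb).symm.injective
    exact isReduced_of_isReduced_stalk _
  have : LocallyQuasiFinite p := MorphismProperty.pullback_snd f j inferInstance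
  have : LocallyOfFiniteType p := MorphismProperty.pullback_snd f j inferInstance
  have : QuasiCompact p := MorphismProperty.pullback_snd f j inferInstance
  have : IsFinite p := IsFinite.of_locallyQuasiFinite p
  refine (finrank_eq p).trans ?_
  have hdeg : ∀ t, p.residueDegree t = f.residueDegree (q t) := fun t => by
    have h1 : (q ≫ f).residueDegree t = (p ≫ j).residueDegree t := by rw [show q ≫ f = p ≫ j from pullback.condition]
    rw [Cyc.Residue.residueDegree_comp, Cyc.Residue.residueDegree_comp,
      Cyc.Residue.residueDegree_eq_one_of_surjective (f := q) t (residueFieldMap_surjective q t),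
      Cyc.Residue.residueDegree_eq_one_of_surjective (f := j) (p t) (residueFieldMap_surjective j (p t)),
      mul_one, one_mul] at h1
    exact h1.symm
  rw [← finsum_mem_coe_finset, Set.Finite.coe_toFinset]
  have hrange : Set.range q = f.base ⁻¹' {η} := by
    rw [Scheme.Pullback.range_fst, Scheme.range_fromSpecResidueField]
  rw [← hrange, finsum_mem_range q.isEmbedding.injective]
  exact finsum_congr hdeg

/-- The points of a geometric fibre correspond to the geometric lifts. -/
theorem natCard_geomFibre [LocallyQuasiFinite f] {K : Type u} [Field K] [IsAlgClosed K]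
    (ξ : Spec (CommRingCat.of K) ⟶ Y) : Nat.card ↥(pullback f ξ) = Nat.card (Lift f ξ) := by
  let q : pullback f ξ ⟶ Spec (CommRingCat.of K) := pullback.snd f ξ
  have : LocallyQuasiFinite q := MorphismProperty.pullback_snd f ξ inferInstance
  refine (Nat.card_congr (Equiv.ofBijective _ (GeomCount.bijective_pt (K := K) q))).symm.trans
    ((Nat.card_congr (baseChangeEquiv (IsPullback.of_hasPullback f ξ) _)).trans ?_)
  rw [show Spec.map (CommRingCat.ofHom (algebraMap K K)) = 𝟙 _ from Spec.map_id _, Category.id_comp]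

theorem natCard_eq_sum [LocallyQuasiFinite f] [QuasiCompact f] {K : Type u} [Field K] [IsAlgClosed K]
    (ξ : Spec (CommRingCat.of K) ⟶ Y) (y : Y) (hy : pt ξ = y) :
    Nat.card (Lift f ξ) = ∑ᶠ x ∈ {x : X | f.base x = y ∧ f.QuasiFiniteAt x}, EGA4loc.residueSepDegree f x := by
  subst hy
  have : Finite (Lift f ξ) := finite_lift f ξ (f.finite_preimage_singleton _)
  rw [← SepDegreeBound.finsum_residueSepDegree f ξ]
  refine finsum_mem_congr (Set.ext fun x => ⟨fun h => ⟨h, f.quasiFiniteAt x⟩, fun h => h.1⟩) fun _ _ => rfl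

theorem main [IsSeparated f] [LocallyQuasiFinite f] [LocallyOfFiniteType f] [QuasiCompact f]
    [IrreducibleSpace Y] [IsLocallyNoetherian Y] [IsReduced X]
    (hdom : ∀ x : X, (∀ x' : X, x' ⤳ x → x' = x) → f.base x = genericPoint Y)
    (y : Y) [IsDomain (Y.presheaf.stalk y)] (hy : IsIntegrallyClosed (Y.presheaf.stalk y))
    {K : Type u} [Field K] [IsAlgClosed K] (ξ : Spec (CommRingCat.of K) ⟶ Y) (hξ : pt ξ = y) (n : ℕ)
    (hn : ∀ _ : Flat (Y.fromSpecResidueField (genericPoint Y)),
      n = ∑ᶠ x ∈ f.base ⁻¹' {genericPoint Y}, EGA4loc.residueDegree f x) :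
    Nat.card ↥(pullback f ξ) ≤ n ∧
      (Nat.card ↥(pullback f ξ) = n ↔ ∃ U : Y.Opens, y ∈ U ∧ IsFinite (f ∣_ U) ∧ Etale (f ∣_ U)) := by
  obtain ⟨W, hyW, hWred⟩ := FinCond.exists_reduced_nhd _ y
  have : Nonempty W := ⟨⟨y, hyW⟩⟩
  have : IrreducibleSpace (W : Scheme.{u}) :=
    W.ι.isOpenEmbedding.irreducibleSpace
  have : IsIntegral (W : Scheme.{u}) := isIntegral_of_irreducibleSpace_of_isReduced _
  have hηW : genericPoint Y ∈ W := (genericPoint_specializes y).mem_open W.isOpen hyW
  let g := f ∣_ W
  have hgen : W.ι (genericPoint (W : Scheme.{u})) = genericPoint Y := by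
    rw [genericPoint_eq_of_isOpenImmersion W.ι]
  have : IsReduced ((f ⁻¹ᵁ W : X.Opens) : Scheme.{u}) := isReduced_of_isOpenImmersion (f ⁻¹ᵁ W).ι
  have : LocallyQuasiFinite g := IsZariskiLocalAtTarget.restrict (P := @LocallyQuasiFinite) inferInstance W
  have hdomg : ∀ Z ∈ irreducibleComponents ↥(f ⁻¹ᵁ W : X.Opens).toScheme, genericPoint (W : Scheme.{u}) ∈ g.base '' Z := by
    intro Z hZ
    obtain ⟨z, hz⟩ := QuasiSober.sober hZ.1 (isClosed_of_mem_irreducibleComponents Z hZ)
    refine ⟨z, hz.mem, W.ι.isOpenEmbedding.injective ?_⟩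
    rw [hgen]
    refine (congr($(morphismRestrict_ι f W) z)).trans (hdom _ fun x' hx' => ?_)
    have hx'P : x' ∈ f ⁻¹ᵁ W := by
      have h1 := (hx'.map f.continuous)
      by_contra hc
      exact absurd (h1.mem_open W.isOpen z.2) hc
    have hs : (⟨x', hx'P⟩ : (f ⁻¹ᵁ W : X.Opens)) ⤳ z :=
      (f ⁻¹ᵁ W).ι.isOpenEmbedding.isInducing.specializes_iff.mp hx'
    have hle : Z ⊆ closure {(⟨x', hx'P⟩ : (f ⁻¹ᵁ W : X.Opens).toScheme)} := hz ▸ closure_minimal
      (Set.singleton_subset_iff.2 hs.mem_closure) isClosed_closure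
    have heq : closure {(⟨x', hx'P⟩ : (f ⁻¹ᵁ W : X.Opens).toScheme)} = Z :=
      (hle.antisymm (hZ.2 isIrreducible_singleton.closure hle)).symm
    have hs2 : z ⤳ (⟨x', hx'P⟩ : (f ⁻¹ᵁ W : X.Opens).toScheme) :=
      hz.specializes (heq ▸ subset_closure rfl)
    exact congrArg Subtype.val (hs.antisymm hs2).eq
  have hfin : (g.base ⁻¹' {genericPoint (W : Scheme.{u})}).Finite := g.finite_preimage_singleton _
  let yW : (W : Scheme.{u}) := ⟨y, hyW⟩
  have hyW' : IsIntegrallyClosed ((W : Scheme.{u}).presheaf.stalk yW) :=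
    IsIntegrallyClosed.of_equiv (W.stalkIso yW).commRingCatIsoToRingEquiv.symm
  let ξW : Spec (CommRingCat.of K) ⟶ W := IsOpenImmersion.lift W.ι ξ (by
    rintro _ ⟨s, rfl⟩
    rw [Scheme.Opens.range_ι, Subsingleton.elim (α := PrimeSpectrum K) s (IsLocalRing.closedPoint K)]
    show pt ξ ∈ W
    rw [hξ]; exact hyW)
  have hξW : ξW ≫ W.ι = ξ := IsOpenImmersion.lift_fac _ _ _
  have hptW : pt ξW = yW := W.ι.isOpenEmbedding.injective (by
    rw [← pt_comp, hξW, hξ]; rfl)
  have hcard : Nat.card ↥(pullback f ξ) =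
      ∑ᶠ x ∈ {x | g.base x = yW ∧ g.QuasiFiniteAt x}, EGA4loc.residueSepDegree g x := by
    rw [natCard_geomFibre, ← natCard_eq_sum g ξW yW hptW]
    conv_lhs => rw [← hξW]
    exact (Nat.card_congr (baseChangeEquiv (isPullback_morphismRestrict f W).flip ξW)).symm
  have hflat : Flat (Y.fromSpecResidueField (genericPoint Y)) := by
    rw [← hgen]
    have : IsIso (W.ι.residueFieldMap (genericPoint (W : Scheme.{u}))) :=
      (ConcreteCategory.isIso_iff_bijective _).2 (Radicial.bijective_residueFieldMap W.ι _)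
    have := flat_fromSpecResidueField_genericPoint (W : Scheme.{u})
    have h := Scheme.Hom.SpecMap_residueFieldMap_fromSpecResidueField W.ι (genericPoint (W : Scheme.{u}))
    rw [← IsIso.eq_inv_comp] at h
    rw [h]; infer_instance
  have hn' : n = ∑ x ∈ hfin.toFinset, EGA4loc.residueDegree g x := by
    rw [hn hflat, ← finsum_mem_coe_finset, Set.Finite.coe_toFinset]
    have himg : f.base ⁻¹' {genericPoint Y} = (f ⁻¹ᵁ W).ι '' (g.base ⁻¹' {genericPoint (W : Scheme.{u})}) := by
      ext x
      constructor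
      · intro hx
        have hxW : x ∈ f ⁻¹ᵁ W := by change f x ∈ W; rw [show f x = genericPoint Y from hx]; exact hηW
        exact ⟨⟨x, hxW⟩, W.ι.isOpenEmbedding.injective
          ((congr($(morphismRestrict_ι f W) ⟨x, hxW⟩)).trans (hx.trans hgen.symm)), rfl⟩
      · rintro ⟨u, hu, rfl⟩
        exact (congr($(morphismRestrict_ι f W) u)).symm.trans ((congrArg W.ι hu).trans hgen)
    rw [himg, finsum_mem_image (f ⁻¹ᵁ W).ι.isOpenEmbedding.injective.injOn]
    refine finsum_mem_congr rfl fun u _ => ?_
    have h1 : ((f ⁻¹ᵁ W).ι ≫ f).residueDegree u = (g ≫ W.ι).residueDegree u := by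
      rw [show g ≫ W.ι = (f ⁻¹ᵁ W).ι ≫ f from morphismRestrict_ι f W]
    rw [Cyc.Residue.residueDegree_comp, Cyc.Residue.residueDegree_comp,
      Cyc.Residue.residueDegree_eq_one_of_surjective (f := (f ⁻¹ᵁ W).ι) u (Radicial.bijective_residueFieldMap _ u).2,
      Cyc.Residue.residueDegree_eq_one_of_surjective (f := W.ι) (g u) (Radicial.bijective_residueFieldMap _ _).2,
      mul_one, one_mul] at h1
    exact h1
  have hyu : CAlg2.IsGeomUnibranch ((W : Scheme.{u}).presheaf.stalk yW) :=
    have := hyW'
    OneBranch.isGeomUnibranch_of_isIntegrallyClosed _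
  obtain ⟨-, h1, h2⟩ := SepDegreeBound.bound g hdomg hfin yW hyu
  refine ⟨by rw [hcard, hn']; exact h1.trans h2, ?_⟩
  rw [hcard, hn']
  constructor
  · intro heq
    obtain ⟨U, hyU, h3, h4⟩ := SepDegreeEtale.forward g hdomg hfin yW hyW' heq
    exact ⟨W.ι ''ᵁ U, ⟨yW, hyU, rfl⟩, (MorphismProperty.arrow_mk_iso_iff @IsFinite (morphismRestrictRestrict f W U)).1 h3,
      (MorphismProperty.arrow_mk_iso_iff @Etale (morphismRestrictRestrict f W U)).1 h4⟩
  · rintro ⟨U, hyU, h3, h4⟩
    let U' : (W : Scheme.{u}).Opens := W.ι ⁻¹ᵁ U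
    have key : W.ι ''ᵁ U' = U.ι ''ᵁ (U.ι ⁻¹ᵁ W) := by
      rw [Scheme.Hom.image_preimage_eq_opensRange_inf, Scheme.Hom.image_preimage_eq_opensRange_inf,
        Scheme.Opens.opensRange_ι, Scheme.Opens.opensRange_ι, inf_comm]
    have hT : ∀ (P : MorphismProperty Scheme.{u}) [IsZariskiLocalAtTarget P], P (f ∣_ U) → P (g ∣_ U') := fun P _ h => by
      rw [MorphismProperty.arrow_mk_iso_iff P (morphismRestrictRestrict f W U'), key,
        ← MorphismProperty.arrow_mk_iso_iff P (morphismRestrictRestrict f U (U.ι ⁻¹ᵁ W))]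
      exact IsZariskiLocalAtTarget.restrict h _
    have := hT @IsFinite h3
    have := hT @Etale h4
    exact (SepDegreeEtale.backward g hfin yW U' hyU).2

theorem card_le [IsSeparated f] [LocallyQuasiFinite f] [LocallyOfFiniteType f] [QuasiCompact f]
    [IrreducibleSpace Y] [IsLocallyNoetherian Y] [IsReduced X]
    (hdom : ∀ x : X, (∀ x' : X, x' ⤳ x → x' = x) → f.base x = genericPoint Y)
    (y : Y) [IsDomain (Y.presheaf.stalk y)] (hy : IsIntegrallyClosed (Y.presheaf.stalk y))
    {K : Type u} [Field K] [IsAlgClosed K] (ξ : Spec (CommRingCat.of K) ⟶ Y) (hξ : pt ξ = y) :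
    letI := (((pullback.snd f (Y.fromSpecResidueField (genericPoint Y))).appTop).hom.comp
      (Scheme.ΓSpecIso (Y.residueField (genericPoint Y))).inv.hom).toAlgebra
    letI n := Module.finrank (Y.residueField (genericPoint Y))
        Γ(pullback f (Y.fromSpecResidueField (genericPoint Y)), ⊤)
    Nat.card ↥(pullback f ξ) ≤ n ∧
      (Nat.card ↥(pullback f ξ) = n ↔ ∃ U : Y.Opens, y ∈ U ∧ IsFinite (f ∣_ U) ∧ Etale (f ∣_ U)) := by
  refine main f hdom y hy ξ hξ _ fun hflat => ?_
  have hfin : (f.base ⁻¹' {genericPoint Y}).Finite := f.finite_preimage_singleton _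
  rw [finrank_generic f (genericPoint Y) hfin, ← finsum_mem_coe_finset, Set.Finite.coe_toFinset]

end Groth.Agent.Lib.GeomFibreBound.Main
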